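import Cfsg.Agent.Spor.TCSound

/-! coset enumeration certificate generated by tools/tc -/

set_option maxRecDepth 100000
set_option autoImplicit false
set_option linter.all false

namespace CL.TC.L43A3

noncomputable def rows0 : Tr ℕ := (.leaf (nat_lit 0x538068c034a01910080))
noncomputable def recs0 : Tr ℕ := (.leaf (nat_lit 0x10e021c08000800200220045d08ba100026004438887105220a44cc09981030206005480a90130026005d00ba0800040004001800500060038000800f00020030001800a0002003800b800c00360010001800f002a003c00c000d0018005c00c80185228a450c0b98177430e83cc0d980e5236a43dd0cba0d5232a434c0c180c522ea439d0aba0c302a6029d0a3a067426e81cc0898065222a4183880705521ea414c071804741ae80dd063a043014600d48529050e101c09d043a02520ea408c031801740ae80548229013006600438107))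
noncomputable def rows : Tr ℕ := rows0
noncomputable def recs : Tr ℕ := recs0
noncomputable def ci0 : CI := ⟨[], (nat_lit 0), false, (.node (nat_lit 1) (.leaf Rule.defn) (.leaf Rule.copy)), (.node (nat_lit 8) (.node (nat_lit 4) (.node (nat_lit 2) (.node (nat_lit 1) (.leaf (XRule.rot (nat_lit 0) [] 18 0)) (.leaf (XRule.rot (nat_lit 86381720) [24, 41, 24, 41] 2 1))) (.node (nat_lit 1) (.leaf (XRule.rot (nat_lit 5289) [41, 41] 18 0)) (.leaf (XRule.rot (nat_lit 7482) [58, 58] 18 0)))) (.node (nat_lit 2) (.node (nat_lit 1) (.leaf (XRule.rot (nat_lit 3096) [24, 24] 18 0)) (.leaf (XRule.rot (nat_lit 4202528959328326808) [24, 41, 58, 24, 41, 58, 24, 41, 58] 17 2))) (.node (nat_lit 1) (.leaf (XRule.rot (nat_lit 903) [7, 7] 18 0)) (.leaf (XRule.rot (nat_lit 1762139154407345159) [7, 24, 7, 58, 24, 7, 24, 58, 24] 10 6))))) (.leaf (XRule.rot (nat_lit 1752719127459796154) [58, 41, 24, 58, 41, 24, 58, 41, 24] 16 2)))⟩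
noncomputable def ci7 : CI := ⟨[0], (nat_lit 7), false, (.node (nat_lit 1) (.leaf Rule.defn) (.leaf Rule.copy)), (.node (nat_lit 4) (.node (nat_lit 2) (.node (nat_lit 1) (.leaf XRule.defn) (.leaf XRule.defn)) (.node (nat_lit 1) (.leaf (XRule.rot (nat_lit 951226) [58, 7, 58] 8 1)) (.leaf (XRule.rot (nat_lit 11021206441) [41, 7, 41, 7, 41] 6 1)))) (.leaf (XRule.rot (nat_lit 7) [7] 18 0)))⟩
noncomputable def ci24 : CI := ⟨[1], (nat_lit 24), false, (.node (nat_lit 1) (.leaf Rule.defn) (.leaf Rule.copy)), (.node (nat_lit 4) (.node (nat_lit 2) (.node (nat_lit 1) (.leaf XRule.defn) (.leaf XRule.defn)) (.node (nat_lit 1) (.leaf (XRule.rot (nat_lit 674857) [41, 24, 41] 2 1)) (.leaf (XRule.rot (nat_lit 15620541498) [58, 24, 58, 24, 58] 12 1)))) (.node (nat_lit 1) (.leaf (XRule.rot (nat_lit 24) [24] 18 0)) (.leaf (XRule.rot (nat_lit 31612888796167) [7, 24, 7, 24, 7, 24, 7] 0 1))))⟩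
noncomputable def ci41 : CI := ⟨[2], (nat_lit 41), false, (.node (nat_lit 1) (.leaf Rule.defn) (.leaf Rule.copy)), (.node (nat_lit 4) (.node (nat_lit 2) (.node (nat_lit 1) (.leaf XRule.defn) (.leaf XRule.defn)) (.node (nat_lit 1) (.leaf (XRule.rot (nat_lit 15656195258) [58, 41, 58, 41, 58] 14 0)) (.leaf (XRule.rot (nat_lit 41) [41] 18 0)))) (.leaf (XRule.rot (nat_lit 4046454329312152) [24, 7, 24, 7, 41, 7, 24, 7] 4 4)))⟩
noncomputable def ci58 : CI := ⟨[3], (nat_lit 58), false, (.node (nat_lit 1) (.leaf Rule.defn) (.leaf Rule.copy)), (.node (nat_lit 4) (.node (nat_lit 2) (.node (nat_lit 1) (.leaf XRule.defn) (.leaf XRule.defn)) (.node (nat_lit 1) (.leaf (XRule.rot (nat_lit 6564486424) [24, 58, 24, 58, 24] 12 0)) (.leaf (XRule.rot (nat_lit 11128167721) [41, 58, 41, 58, 41] 14 1)))) (.node (nat_lit 1) (.leaf (XRule.rot (nat_lit 13693118183279657) [41, 24, 58, 41, 24, 58, 41, 24] 16 2)) (.leaf (XRule.rot (nat_lit 58) [58] 18 0))))⟩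
noncomputable def outer : Tr CI := (.node (nat_lit 1) (.node (nat_lit 2) (.node (nat_lit 8) (.leaf ci0) (.leaf ci24)) (.leaf ci58)) (.node (nat_lit 2) (.leaf ci41) (.leaf ci7)))
def cols : List ℕ := [nat_lit 7, nat_lit 24, nat_lit 41, nat_lit 58]
def invL : List ℕ := [0, 1, 2, 3]
def rels : List (List ℕ) := [[0, 1, 0, 1, 0, 1, 0, 1], [2, 1, 2, 1], [2, 0, 1, 0, 2, 1, 0, 1, 0], [2, 0, 2, 0, 2, 0], [3, 0, 3, 0], [3, 1, 0, 1, 3, 1, 0, 1, 0], [3, 1, 3, 1, 3, 1], [2, 3, 2, 3, 2, 3], [2, 1, 3, 2, 1, 3, 2, 1, 3]]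
def subs : List (List ℕ) := []
noncomputable def row (n : ℕ) : ℕ := rowOf (fun h => rows.get h) (nat_lit 4) (nat_lit 15) (nat_lit 75) (nat_lit 0x7ffffffffffffffffff) n
noncomputable def xleaf (h : ℕ) : ℕ := recs.get h
noncomputable def mF : ℕ → ℕ := mainRow row (rowChk row xleaf outer (nat_lit 8) (nat_lit 255) (nat_lit 3) (nat_lit 10) (nat_lit 1023) (nat_lit 131071) (nat_lit 128) (nat_lit 1) (nat_lit 256) (nat_lit 7) (nat_lit 127) (nat_lit 15) (nat_lit 32767) (nat_lit 8) (nat_lit 255) cols)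
noncomputable def xF : ℕ → ℕ → ℕ := xLeaf row xleaf outer (nat_lit 255) (nat_lit 10) (nat_lit 131071) (nat_lit 128) (nat_lit 1) (nat_lit 7) (nat_lit 127) (nat_lit 15) (nat_lit 32767) (nat_lit 32640) (nat_lit 8) (nat_lit 255) (nat_lit 10) (nat_lit 1023) (nat_lit 4) (nat_lit 15) (nat_lit 58) (nat_lit 128) (nat_lit 128)
noncomputable def cert : Cert := ⟨row, xleaf, outer, cols, nat_lit 8, nat_lit 255, nat_lit 3, nat_lit 10, nat_lit 1023, nat_lit 131071, nat_lit 128, nat_lit 1, nat_lit 256, nat_lit 7, nat_lit 127, nat_lit 15, nat_lit 32767, nat_lit 32640, nat_lit 8, nat_lit 255, nat_lit 10, nat_lit 1023, nat_lit 4, nat_lit 15, nat_lit 58, nat_lit 128, nat_lit 128, nat_lit 17, nat_lit 128, nat_lit 1⟩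
theorem tabok : tabOK (fun i => invL.getD i i) rels subs outer cols (nat_lit 7) (nat_lit 58) = true := by decide +kernel
theorem m0 : rng mF (nat_lit 1) (nat_lit 1) = 0 := by decide +kernel
noncomputable def s0 : List ℕ := [nat_lit 0x10d405060c800445034103200000000000000047d09428320000000127455034191814800000004bd174150646853001334651a0c92d4b9314d1334a1274a8844d92d45d1249053495114512a4d8524bd2c4e9381052a4f12f0c9374f1310cd274fd2c504444513f45c334d54249c344d9415092910d02515120d1144a9494650752d1140d064693451cc54094d519351114b4454d4a949149105294f46c4254d07545484d941538734055454d0e1195454d070d55440c245511052833475094055a401084707548d0955d0d4212218d1d42501571004211c5788447d1c5891d47853581234250156958401084709747d2259d6259923478734850b55d0d4211e5a12142d57434b84016a5916b1196d40424000000000000000000000000000000000000000000000000000000000000000000000000000000000000000000000000000000000000000000000000000000000000000000000000000000000000000000000000000000000000]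
theorem x0 : xs xF s0 (nat_lit 1) = 0 := by decide +kernel
theorem mz0 : AllZ mF 1 (nat_lit 2) := (AllZ.step (AllZ.nil mF 1) (nat_lit 1) (nat_lit 2) rfl m0)
theorem xz0 : XZ xF (nat_lit 1) := (XZ.step (XZ.nil xF) s0 (nat_lit 1) (nat_lit 1) (by decide +kernel) x0)
/-- the certificate (1 points) is valid -/
theorem valid : cert.Valid (fun i => invL.getD i i) rels subs 4 :=
  ⟨by decide +kernel, tabok, by decide +kernel, mz0, xz0⟩
theorem cert_N : cert.N = 1 := rfl

end CL.TC.L43A3
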