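/-
Project ORTH, `q = 3`: coordinates for `Ω₆⁺(3)`, its generators and relations.
-/
import Cfsg.Agent.Orth.Frame
import Cfsg.Agent.Orth.L43A
import Cfsg.Agent.Orth.L43TCP

set_option autoImplicit false
set_option maxRecDepth 100000
set_option linter.unusedSectionVars false

open QuadraticMap Module Subgroup

namespace CL.L43

open CL.TC CL.Amg CL.OR CL.Cls

/-- the form on codes -/
def bf (v x : ℕ) : ℕ := (v % 3 * (x % 3) + v / 3 % 3 * (x / 3 % 3) + v / 9 % 3 * (x / 9 % 3) + v / 27 % 3 * (x / 27 % 3) +
  v / 81 % 3 * (x / 81 % 3) + 2 * (v / 243 % 3 * (x / 243 % 3))) % 3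
/-- the code of `x + k v` -/
def ad (x k v : ℕ) : ℕ := (x % 3 + k * (v % 3)) % 3 + 3 * ((x / 3 % 3 + k * (v / 3 % 3)) % 3) +
  9 * ((x / 9 % 3 + k * (v / 9 % 3)) % 3) + 27 * ((x / 27 % 3 + k * (v / 27 % 3)) % 3) +
  81 * ((x / 81 % 3 + k * (v / 81 % 3)) % 3) + 243 * ((x / 243 % 3 + k * (v / 243 % 3)) % 3)
/-- reflections on codes -/
noncomputable def rf (v x : ℕ) : ℕ := frc x fun x => frc (bf v v * bf v x) fun k => ad x k v
/-- products of reflections on codes -/
noncomputable def ap (l : List ℕ) (x : ℕ) : ℕ := l.foldr rf x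
/-- equality of two products of reflections -/
noncomputable def eqv (l m : List ℕ) : Bool := [1, 3, 9, 27, 81, 243].all fun i => Nat.beq (ap l i) (ap m i)
/-- the generators as products of reflections -/
def W (i : ℕ) : List ℕ :=
  [[243, 63], [243, 189], [1, 81], [1, 237], [243, 21], [1, 9], [3, 9, 27, 81], [243, 163], [1, 378]].getD i []
/-- a product of pairs of reflections in vectors of the same norm -/
def pr : List ℕ → Bool
  | u :: v :: l => Nat.beq (bf u u) (bf v v) && pr l
  | [] => true
  | _ => false
/-- letter and distance of the walk to the roots -/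
def wk : ℕ := 0x555800645800000040534800606000000051000044000054453831606000534300000050515300556300000042000060000052514732000050000060505030000065000060605045615450606351505000626000546000000050525300506000000060000052000061425142506000515600000045546200606000000038000058000048414628000060000057505540000060000050405040615354606144484100000053000071475150000061000070575551576250605050374200000071000071616551000071000060565041606040605460464400605551535133505000435241616045504000546200636000000000606000625400000038565100605000000045000048000058464128605000535200000060605400606200000050000061000052514242000050000060504040000057000060555040616044536154414800635500535100000042435300606000000050000052000060475132606000485300000051586400585500000040000054000044384531000060000065506045000060000050505030636051546150505000000060000071505641000071000071656151546060606040444600000070000061555751000071000053514750506050625750423700606145524341405000515333556051505000606300625400000000625252525232727200425240405040706000707000605000000022505535334331645800444123534541616300535300606000000018616100514100000030605100515100000020000042000034413117455341414423636100433331555035586400606000535300000018504040524240607000525232526252727200506000707000000022515100516000000020415100616100000030000034000042314117555700423700000041504400454700000031000050000040322721474500445000000031374200575500000041000040000050273221000045000033403030000033000045304030524444445244000000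

theorem ad_lt (x k v : ℕ) : ad x k v < 729 := by unfold ad; omega

theorem ap_lt (l : List ℕ) {x : ℕ} (h : x < 729) : ap l x < 729 := by
  cases l with
  | nil => exact h
  | cons v l => exact ad_lt _ _ _

theorem c_rel : ∀ r ∈ L43P.rels ++ (List.range 9).map fun i => [i, i], eqv (sb W r) [] = true := by decide +kernel
theorem c_wk : ∀ x < 729, bf x x = 0 ∨ x ∈ [1, 2, 243, 486] ∨
    lk wk 8 255 x % 16 < 9 ∧ lk wk 8 255 (ap (W (lk wk 8 255 x % 16)) x) / 16 < lk wk 8 255 x / 16 := by decide +kernel
theorem c_fix : ∀ x < 729, ap (W 6) x = x → (bf x x = 1 → x = 1 ∨ x = 2) ∧ (bf x x = 2 → x = 243 ∨ x = 486) := by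
  decide +kernel
theorem c_nr : ∀ r ∈ [1, 243], ∀ i < 9, ∃ w ∈ [[i], [7, 2], [8, 1]], ltB 9 w = true ∧
    eqv (r :: (W i ++ [r])) (sb W w) = true := by decide +kernel

variable {F V : Type*} [Field F] [AddCommGroup V] [Module F V] {Q : QuadraticForm F V} {c : F} {e : Fin 5 → V} {n : V}

/-- the vector with a given code -/
def vec (F : Type*) [Field F] [Module F V] (e : Fin 5 → V) (n : V) (x : ℕ) : V :=
  ((x % 3 : ℕ) : F) • e 0 + ((x / 3 % 3 : ℕ) : F) • e 1 + ((x / 9 % 3 : ℕ) : F) • e 2 + ((x / 27 % 3 : ℕ) : F) • e 3 +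
    ((x / 81 % 3 : ℕ) : F) • e 4 + ((x / 243 % 3 : ℕ) : F) • n

/-- an orthogonal basis over `𝔽₃` -/
structure Su (Q : QuadraticForm F V) (c : F) (e : Fin 5 → V) (n : V) : Prop where
  st : St0 Q
  q3 : Nat.card F = 3
  fr : Fr Q c e
  qn : Q n = -c
  orth : ∀ i, polar Q n (e i) = 0
  dim : finrank F V = 6

theorem vec_b : vec F e n 1 = e 0 ∧ vec F e n 3 = e 1 ∧ vec F e n 9 = e 2 ∧ vec F e n 27 = e 3 ∧ vec F e n 81 = e 4 ∧
    vec F e n 243 = n := by simp [vec]

/-- the reflection in a coded vector -/
def R (Q : QuadraticForm F V) (e : Fin 5 → V) (n : V) (v : ℕ) : OG Q := refl Q (vec F e n v)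
/-- the generators -/
def om (Q : QuadraticForm F V) (e : Fin 5 → V) (n : V) (i : ℕ) : OG Q := ev (R Q e n) (W i)

namespace Su

variable [Finite F] [FiniteDimensional F V] (h : Su Q c e n)
include h

theorem char : CharP F 3 := by
  have := Fintype.ofFinite F
  rw [CharP.charP_iff_prime_eq_zero Nat.prime_three, ← h.q3, Nat.card_eq_fintype_card]
  exact FiniteField.cast_card_eq_zero F

theorem three : (3 : F) = 0 := have := h.char; CharP.cast_eq_zero F 3

theorem md (a : ℕ) : ((a % 3 : ℕ) : F) = a := have := h.char; (CharP.cast_eq_mod F 3 a).symm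

theorem vec_ad (x k v : ℕ) : vec F e n (ad x k v) = vec F e n x + (k : F) • vec F e n v := by
  have key : ∀ a b c d f g : ℕ, a < 3 → b < 3 → c < 3 → d < 3 → f < 3 → g < 3 → vec F e n (a + 3 * b + 9 * c + 27 * d + 81 * f + 243 * g) =
      (a : F) • e 0 + (b : F) • e 1 + (c : F) • e 2 + (d : F) • e 3 + (f : F) • e 4 + (g : F) • n := by
    intro a b c d f g _ _ _ _ _ _
    generalize hN : a + 3 * b + 9 * c + 27 * d + 81 * f + 243 * g = N
    rw [vec, show N % 3 = a by omega, show N / 3 % 3 = b by omega, show N / 9 % 3 = c by omega,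
      show N / 27 % 3 = d by omega, show N / 81 % 3 = f by omega, show N / 243 % 3 = g by omega]
  have m3 : ∀ a : ℕ, a % 3 < 3 := fun a => Nat.mod_lt a (by omega)
  rw [ad, key _ _ _ _ _ _ (m3 _) (m3 _) (m3 _) (m3 _) (m3 _) (m3 _)]
  simp only [vec, h.md, Nat.cast_add, Nat.cast_mul]
  module

theorem polar_vec (v x : ℕ) : polar Q (vec F e n v) (vec F e n x) = 2 * c * bf v x := by
  have h1 : ∀ i j, polar Q (e i) (e j) = if i = j then 2 * c else 0 := fun i j => by
    split_ifs with hij
    · rw [hij, h.fr.polar_self]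
    · exact h.fr.orth i j hij
  have h2 : ∀ i, polar Q (e i) n = 0 := fun i => polar_eq_zero_comm (h.orth i)
  have h3 : polar Q n n = 2 * -c := by rw [polar_self', h.qn]
  simp only [vec, bf, polar_add_left, polar_add_right, polar_smul_left, polar_smul_right, h1, h2, h3, h.orth, h.md,
    Nat.cast_add, Nat.cast_mul, smul_eq_mul, Nat.cast_ofNat, Fin.reduceEq, if_true, if_false]
  linear_combination (-2 * c * (v / 243 : ℕ) * (x / 243 : ℕ)) * h.three

theorem Q_vec (v : ℕ) : Q (vec F e n v) = c * bf v v :=
  mul_left_cancel₀ h.st.h2 (by rw [← polar_self', h.polar_vec, mul_assoc])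

theorem cast_inj {a b : ℕ} (ha : a < 3) (hb : b < 3) (e : (a : F) = b) : a = b := by
  have := h.char
  exact CharP.natCast_injOn_Iio F 3 ha hb e

theorem bf_eq {u v x y : ℕ} (e : c * bf u v = c * bf x y) : bf u v = bf x y :=
  h.cast_inj (Nat.mod_lt _ (by omega)) (Nat.mod_lt _ (by omega)) (mul_left_cancel₀ h.fr.ne e)

theorem vec_inj {x y : ℕ} (hx : x < 729) (hy : y < 729) (H : vec F e n x = vec F e n y) : x = y := by
  have key : ∀ i, bf i x = bf i y := fun i => h.bf_eq (mul_left_cancel₀ h.st.h2 (by
    rw [← mul_assoc, ← mul_assoc, ← h.polar_vec, ← h.polar_vec, H]))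
  have h1 := key 1; have h2 := key 3; have h3 := key 9; have h4 := key 27; have h5 := key 81; have h6 := key 243
  simp only [bf, Nat.reduceMod, Nat.reduceDiv, zero_mul, one_mul, add_zero, zero_add, mul_zero] at h1 h2 h3 h4 h5 h6
  omega

theorem vec_surj (y : V) : ∃ x < 729, vec F e n x = y := by
  have : Finite V := Module.finite_of_finite F
  obtain ⟨x, hx⟩ := (Function.Injective.bijective_of_nat_card_le (f := fun x : Fin 729 => vec F e n x)
    (fun x y H => Fin.ext (h.vec_inj x.2 y.2 H)) (by
      rw [Module.natCard_eq_pow_finrank (K := F), h.q3, h.dim]; simp)).2 y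
  exact ⟨x, x.2, hx⟩

theorem R_app (v x : ℕ) : (R Q e n v).1 (vec F e n x) = vec F e n (rf v x) := by
  rw [R, refl_app, rf, frc_eq, frc_eq, h.vec_ad, h.Q_vec, h.polar_vec, sub_eq_add_neg, ← neg_smul, Nat.cast_mul]
  congr 2
  have h1 : bf v v < 3 := Nat.mod_lt _ (by omega)
  have hc := h.fr.ne
  have h2 := h.st.h2
  generalize bf v v = k at *
  interval_cases k
  · simp
  · field_simp; push_cast; linear_combination (-(bf v x : F)) * h.three
  · push_cast; field_simp; linear_combination (-(bf v x : F)) * h.three

theorem ev_app (l : List ℕ) (x : ℕ) : (ev (R Q e n) l).1 (vec F e n x) = vec F e n (ap l x) := by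
  induction l with
  | nil => rfl
  | cons v l ih => rw [ev_cons, OG.mul_app, ih, h.R_app]; rfl

theorem ev_eq {l m : List ℕ} (H : eqv l m = true) : ev (R Q e n) l = ev (R Q e n) m := by
  simp only [eqv, List.all_cons, List.all_nil, Bool.and_eq_true, Nat.beq_eq] at H
  obtain ⟨h1, h2, h3, h4, h5, h6, -⟩ := H
  refine OG.ext' fun y => ?_
  obtain ⟨x, -, rfl⟩ := h.vec_surj y
  obtain ⟨b1, b2, b3, b4, b5, b6⟩ := vec_b (F := F) (e := e) (n := n)
  have key : ∀ i, ap l i = ap m i → (ev (R Q e n) l).1 (vec F e n i) = (ev (R Q e n) m).1 (vec F e n i) := fun i H => by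
    rw [h.ev_app, h.ev_app, H]
  have k1 := key _ h1; have k2 := key _ h2; have k3 := key _ h3; have k4 := key _ h4; have k5 := key _ h5
  have k6 := key _ h6
  rw [b1] at k1; rw [b2] at k2; rw [b3] at k3; rw [b4] at k4; rw [b5] at k5; rw [b6] at k6
  simp only [vec, map_add, map_smul, k1, k2, k3, k4, k5, k6]

theorem ev_mem : ∀ l : List ℕ, pr l = true → ev (R Q e n) l ∈ commutator (OG Q)
  | [], _ => one_mem _
  | [_], H => absurd H (by simp [pr])
  | u :: v :: l, H => by
    rw [pr, Bool.and_eq_true, Nat.beq_eq] at H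
    rw [ev_cons, ev_cons, ← mul_assoc]
    refine mul_mem ?_ (ev_mem l H.2)
    have e1 : Q (vec F e n u) = Q (vec F e n v) := by rw [h.Q_vec, h.Q_vec, H.1]
    by_cases h0 : Q (vec F e n v) = 0
    · rw [R, R, refl_of_singular h0, refl_of_singular (e1.trans h0), one_mul]; exact one_mem _
    · exact (refl_mul_refl_mem_iff h.st (e1 ▸ h0) h0).2 ⟨_, by rw [e1]⟩

theorem om_mem (i : ℕ) : om Q e n i ∈ commutator (OG Q) := by
  refine h.ev_mem _ ?_
  rcases Nat.lt_or_ge i 9 with hi | hi
  · revert i; decide +kernel
  · rw [W, List.getD_eq_default _ _ hi]; rfl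

theorem om_rel : TC.Rel (om Q e n) L43P.rels := fun r hr =>
  (ev_ev _ _ _).trans (h.ev_eq (c_rel r (List.mem_append_left _ hr)))

theorem om_sq (i : ℕ) : om Q e n i * om Q e n i = 1 := by
  rcases Nat.lt_or_ge i 9 with hi | hi
  · have := (ev_ev _ _ _).trans (h.ev_eq (c_rel [i, i]
      (List.mem_append_right _ (List.mem_map.2 ⟨i, List.mem_range.2 hi, rfl⟩))))
    simpa [om] using this
  · rw [om, W, List.getD_eq_default _ _ hi]; exact one_mul _

theorem om_z : om Q e n 6 = zz Q e 0 := by
  obtain ⟨-, b2, b3, b4, b5, -⟩ := vec_b (F := F) (e := e) (n := n)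
  rw [h.fr.zz_zero]
  simp only [om, W, List.getD_cons_succ, List.getD_cons_zero, ev_cons, ev_nil, R, b2, b3, b4, b5, rr, mul_one, mul_assoc]

theorem om_CC {i : ℕ} (hi : i < 7) : om Q e n i ∈ CC Q e := by
  refine mem_CC.2 ⟨h.om_mem i, ?_⟩
  rw [← h.om_z, Commute, SemiconjBy, om, om, ← ev_append, ← ev_append]
  exact h.ev_eq ((by decide +kernel : ∀ i < 7, eqv (W i ++ W 6) (W 6 ++ W i) = true) i hi)

end Su

end CL.L43
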